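import Cfsg.Agent.Lib.Helper23.TriChk
import Cfsg.Agent.Lib.Helper22.ChevTabE8

set_option autoImplicit false
set_option maxRecDepth 1000000
set_option maxHeartbeats 0

namespace Cfsg.Agent.Lib.Helper23

open Cfsg.Lie Cfsg.Agent.Lib.Helper22

theorem triE8_half : ∀ r < chevE8.nroots, (chevE8.IsPosRoot r → chevE8.nroots ≤ 2 * r) ∧
    (chevE8.IsNegRoot r → 2 * r < chevE8.nroots) := by
  decide +kernel

theorem triE8_up_c0 : allRange 120 8 (triChk (colX tbE8) (lvN 240) 248) = true := by
  decide +kernel

theorem triE8_up_c1 : allRange 128 8 (triChk (colX tbE8) (lvN 240) 248) = true := by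
  decide +kernel

theorem triE8_up_c2 : allRange 136 8 (triChk (colX tbE8) (lvN 240) 248) = true := by
  decide +kernel

theorem triE8_up_c3 : allRange 144 8 (triChk (colX tbE8) (lvN 240) 248) = true := by
  decide +kernel

theorem triE8_up_c4 : allRange 152 8 (triChk (colX tbE8) (lvN 240) 248) = true := by
  decide +kernel

theorem triE8_up_c5 : allRange 160 8 (triChk (colX tbE8) (lvN 240) 248) = true := by
  decide +kernel

theorem triE8_up_c6 : allRange 168 8 (triChk (colX tbE8) (lvN 240) 248) = true := by
  decide +kernel

theorem triE8_up_c7 : allRange 176 8 (triChk (colX tbE8) (lvN 240) 248) = true := by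
  decide +kernel

theorem triE8_up_c8 : allRange 184 8 (triChk (colX tbE8) (lvN 240) 248) = true := by
  decide +kernel

theorem triE8_up_c9 : allRange 192 8 (triChk (colX tbE8) (lvN 240) 248) = true := by
  decide +kernel

theorem triE8_up_c10 : allRange 200 8 (triChk (colX tbE8) (lvN 240) 248) = true := by
  decide +kernel

theorem triE8_up_c11 : allRange 208 8 (triChk (colX tbE8) (lvN 240) 248) = true := by
  decide +kernel

theorem triE8_up_c12 : allRange 216 8 (triChk (colX tbE8) (lvN 240) 248) = true := by
  decide +kernel

theorem triE8_up_c13 : allRange 224 8 (triChk (colX tbE8) (lvN 240) 248) = true := by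
  decide +kernel

theorem triE8_up_c14 : allRange 232 8 (triChk (colX tbE8) (lvN 240) 248) = true := by
  decide +kernel

theorem triE8_up : ∀ s, 120 ≤ s → s < 240 → (triChk (colX tbE8) (lvN 240) 248) s = true := by
  intro s hs0 hs
  by_cases h0 : s < 128
  · exact allRange_iff.1 triE8_up_c0 s (by omega) (by omega)
  by_cases h1 : s < 136
  · exact allRange_iff.1 triE8_up_c1 s (by omega) (by omega)
  by_cases h2 : s < 144
  · exact allRange_iff.1 triE8_up_c2 s (by omega) (by omega)
  by_cases h3 : s < 152
  · exact allRange_iff.1 triE8_up_c3 s (by omega) (by omega)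
  by_cases h4 : s < 160
  · exact allRange_iff.1 triE8_up_c4 s (by omega) (by omega)
  by_cases h5 : s < 168
  · exact allRange_iff.1 triE8_up_c5 s (by omega) (by omega)
  by_cases h6 : s < 176
  · exact allRange_iff.1 triE8_up_c6 s (by omega) (by omega)
  by_cases h7 : s < 184
  · exact allRange_iff.1 triE8_up_c7 s (by omega) (by omega)
  by_cases h8 : s < 192
  · exact allRange_iff.1 triE8_up_c8 s (by omega) (by omega)
  by_cases h9 : s < 200
  · exact allRange_iff.1 triE8_up_c9 s (by omega) (by omega)
  by_cases h10 : s < 208
  · exact allRange_iff.1 triE8_up_c10 s (by omega) (by omega)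
  by_cases h11 : s < 216
  · exact allRange_iff.1 triE8_up_c11 s (by omega) (by omega)
  by_cases h12 : s < 224
  · exact allRange_iff.1 triE8_up_c12 s (by omega) (by omega)
  by_cases h13 : s < 232
  · exact allRange_iff.1 triE8_up_c13 s (by omega) (by omega)
  by_cases h14 : s < 240
  · exact allRange_iff.1 triE8_up_c14 s (by omega) (by omega)
  omega

theorem triE8_down_c0 : allRange 0 8 (triChk (colX tbE8) (lvN' 240) 248) = true := by
  decide +kernel

theorem triE8_down_c1 : allRange 8 8 (triChk (colX tbE8) (lvN' 240) 248) = true := by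
  decide +kernel

theorem triE8_down_c2 : allRange 16 8 (triChk (colX tbE8) (lvN' 240) 248) = true := by
  decide +kernel

theorem triE8_down_c3 : allRange 24 8 (triChk (colX tbE8) (lvN' 240) 248) = true := by
  decide +kernel

theorem triE8_down_c4 : allRange 32 8 (triChk (colX tbE8) (lvN' 240) 248) = true := by
  decide +kernel

theorem triE8_down_c5 : allRange 40 8 (triChk (colX tbE8) (lvN' 240) 248) = true := by
  decide +kernel

theorem triE8_down_c6 : allRange 48 8 (triChk (colX tbE8) (lvN' 240) 248) = true := by
  decide +kernel

theorem triE8_down_c7 : allRange 56 8 (triChk (colX tbE8) (lvN' 240) 248) = true := by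
  decide +kernel

theorem triE8_down_c8 : allRange 64 8 (triChk (colX tbE8) (lvN' 240) 248) = true := by
  decide +kernel

theorem triE8_down_c9 : allRange 72 8 (triChk (colX tbE8) (lvN' 240) 248) = true := by
  decide +kernel

theorem triE8_down_c10 : allRange 80 8 (triChk (colX tbE8) (lvN' 240) 248) = true := by
  decide +kernel

theorem triE8_down_c11 : allRange 88 8 (triChk (colX tbE8) (lvN' 240) 248) = true := by
  decide +kernel

theorem triE8_down_c12 : allRange 96 8 (triChk (colX tbE8) (lvN' 240) 248) = true := by
  decide +kernel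

theorem triE8_down_c13 : allRange 104 8 (triChk (colX tbE8) (lvN' 240) 248) = true := by
  decide +kernel

theorem triE8_down_c14 : allRange 112 8 (triChk (colX tbE8) (lvN' 240) 248) = true := by
  decide +kernel

theorem triE8_down : ∀ s, 0 ≤ s → s < 120 → (triChk (colX tbE8) (lvN' 240) 248) s = true := by
  intro s hs0 hs
  by_cases h0 : s < 8
  · exact allRange_iff.1 triE8_down_c0 s (by omega) (by omega)
  by_cases h1 : s < 16
  · exact allRange_iff.1 triE8_down_c1 s (by omega) (by omega)
  by_cases h2 : s < 24
  · exact allRange_iff.1 triE8_down_c2 s (by omega) (by omega)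
  by_cases h3 : s < 32
  · exact allRange_iff.1 triE8_down_c3 s (by omega) (by omega)
  by_cases h4 : s < 40
  · exact allRange_iff.1 triE8_down_c4 s (by omega) (by omega)
  by_cases h5 : s < 48
  · exact allRange_iff.1 triE8_down_c5 s (by omega) (by omega)
  by_cases h6 : s < 56
  · exact allRange_iff.1 triE8_down_c6 s (by omega) (by omega)
  by_cases h7 : s < 64
  · exact allRange_iff.1 triE8_down_c7 s (by omega) (by omega)
  by_cases h8 : s < 72
  · exact allRange_iff.1 triE8_down_c8 s (by omega) (by omega)
  by_cases h9 : s < 80
  · exact allRange_iff.1 triE8_down_c9 s (by omega) (by omega)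
  by_cases h10 : s < 88
  · exact allRange_iff.1 triE8_down_c10 s (by omega) (by omega)
  by_cases h11 : s < 96
  · exact allRange_iff.1 triE8_down_c11 s (by omega) (by omega)
  by_cases h12 : s < 104
  · exact allRange_iff.1 triE8_down_c12 s (by omega) (by omega)
  by_cases h13 : s < 112
  · exact allRange_iff.1 triE8_down_c13 s (by omega) (by omega)
  by_cases h14 : s < 120
  · exact allRange_iff.1 triE8_down_c14 s (by omega) (by omega)
  omega

theorem triFactsE8 : TriFacts chevE8 tbE8 where
  half := triE8_half
  up := fun r hr h => by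
    change r < 240 at hr
    change 240 ≤ 2 * r at h
    exact triE8_up r (by omega) (by omega)
  down := fun r hr h => by
    change 2 * r < 240 at h
    exact triE8_down r (by omega) (by omega)

end Cfsg.Agent.Lib.Helper23
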