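import Cfsg.Agent.Lib.Helper23.FastRoot
import Cfsg.Agent.Lib.Helper22.ChevTabE6

set_option autoImplicit false
set_option maxRecDepth 1000000
set_option maxHeartbeats 0

namespace Cfsg.Agent.Lib.Helper23

open Cfsg.Lie Cfsg.Agent.Lib.Helper22

def ntE6 : ℕ := 0x11e11a11610f11210a1031060fb0fe0f60ef0f20ea0e60e20de0d70da0cf0d20ca0c30c60be0ba0b30b60ae0aa0a30a609e09709a08f09308608b08207a07f07607206a06f06606205a05f05604e05304604b04203e03a03602e03302a02202701a01f01600e01300a00600211e11a11311610e10710a1020fe0f70fa0f20eb0ee0e60e20db0de0d60d20cb0ce0c60bf0c20ba0b60af0b20aa0a609f0a209208b09b08709708e07e08307a07606e07306a06605e06305a05205704e04a04204703e03a03203702e02602b02201e01601b01200a00f00600211e11711a11210e10a0ff0fb1061020f60f20ee0e70ea0e20de0d30cf0da0d60ca0c60c20bb0be0b60b20ab0ae09a0960830a70a309208e07f07b09f08a08607207706e06a06206705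e05a05604a04605304f04203e03603b03202e02a01e01a02702301601200e00600b00211e11a10b10710311611210e0fe0fa0f60f20ee0ea0e30e60de0da0d60c70c30bf0d20ce0ca0ba0a60a209e0770b70b30af09a09609208e08a08607306f06b0ab08207e07a06605605204e06305f05b04a04604203a03f03603202e02a02602201200e00a01f01b01700600211b11e11611210e10a1061020f30ef0eb0fe0fa0f60e60e20de0da0d60b70b30af0a60a209e0670d20ce0ca0aa0c70c30bf09a09609208e08a08606305f05b07605605204e0bb08207e07a07306f06b04a04604203e03a02a02602203703302f01e01a01601200e00a00200711e11a11611210e0de0da0d60d20ce0ca0b60b20ae0aa03f10b1071030ff0fb0f70c60c20be0ba0f30ef0eb0e70a60a209e09a09609208e08a08608207e07a03b03703302f06606205e05a02b02702301f01b0170e307607206e06a05605204e04a04604201200e00a006002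

def siE6 : ℕ := 0x2402502702a02e038

theorem ntE6_hs : ∀ i < tbE6.l, chevE6.simple i = sLook siE6 i ∧ sLook siE6 i < tbE6.n := by
  decide +kernel

theorem ntE6_chk_0 : chkN tbE6 ntE6 siE6 78 0 = true := by
  decide +kernel

theorem ntE6_chk_1 : chkN tbE6 ntE6 siE6 78 1 = true := by
  decide +kernel

theorem ntE6_chk_2 : chkN tbE6 ntE6 siE6 78 2 = true := by
  decide +kernel

theorem ntE6_chk_3 : chkN tbE6 ntE6 siE6 78 3 = true := by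
  decide +kernel

theorem ntE6_chk_4 : chkN tbE6 ntE6 siE6 78 4 = true := by
  decide +kernel

theorem ntE6_chk_5 : chkN tbE6 ntE6 siE6 78 5 = true := by
  decide +kernel

theorem ntE6_valid : NValid tbE6 ntE6 siE6 chevE6 := by
  refine ⟨ntE6_hs, fun i hi => ?_⟩
  change i < 6 at hi
  have : i = 0 ∨ i = 1 ∨ i = 2 ∨ i = 3 ∨ i = 4 ∨ i = 5 := by omega
  rcases this with rfl | rfl | rfl | rfl | rfl | rfl
  · exact ntE6_chk_0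
  · exact ntE6_chk_1
  · exact ntE6_chk_2
  · exact ntE6_chk_3
  · exact ntE6_chk_4
  · exact ntE6_chk_5

theorem ntE6_refl_0 : ∀ s < 72, chevE6.reflectRoot 0 s = nTgt 72 ntE6 0 s := by
  decide +kernel

theorem ntE6_refl_1 : ∀ s < 72, chevE6.reflectRoot 1 s = nTgt 72 ntE6 1 s := by
  decide +kernel

theorem ntE6_refl_2 : ∀ s < 72, chevE6.reflectRoot 2 s = nTgt 72 ntE6 2 s := by
  decide +kernel

theorem ntE6_refl_3 : ∀ s < 72, chevE6.reflectRoot 3 s = nTgt 72 ntE6 3 s := by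
  decide +kernel

theorem ntE6_refl_4 : ∀ s < 72, chevE6.reflectRoot 4 s = nTgt 72 ntE6 4 s := by
  decide +kernel

theorem ntE6_refl_5 : ∀ s < 72, chevE6.reflectRoot 5 s = nTgt 72 ntE6 5 s := by
  decide +kernel

theorem ntE6_tgt_0 : ∀ s < 72, nTgt 72 ntE6 0 s < 72 ∧
    (nSgn 72 ntE6 0 s = 2 ∨ nSgn 72 ntE6 0 s = 3) ∧ nSgn 72 ntE6 0 (72 - 1 - s) = nSgn 72 ntE6 0 s ∧
    dc (nSgn 72 ntE6 0 s) * dc (nSgn 72 ntE6 0 (nTgt 72 ntE6 0 s)) = (-1) ^ (chevE6.cartan 0 s).natAbs := by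
  decide +kernel

theorem ntE6_tgt_1 : ∀ s < 72, nTgt 72 ntE6 1 s < 72 ∧
    (nSgn 72 ntE6 1 s = 2 ∨ nSgn 72 ntE6 1 s = 3) ∧ nSgn 72 ntE6 1 (72 - 1 - s) = nSgn 72 ntE6 1 s ∧
    dc (nSgn 72 ntE6 1 s) * dc (nSgn 72 ntE6 1 (nTgt 72 ntE6 1 s)) = (-1) ^ (chevE6.cartan 1 s).natAbs := by
  decide +kernel

theorem ntE6_tgt_2 : ∀ s < 72, nTgt 72 ntE6 2 s < 72 ∧
    (nSgn 72 ntE6 2 s = 2 ∨ nSgn 72 ntE6 2 s = 3) ∧ nSgn 72 ntE6 2 (72 - 1 - s) = nSgn 72 ntE6 2 s ∧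
    dc (nSgn 72 ntE6 2 s) * dc (nSgn 72 ntE6 2 (nTgt 72 ntE6 2 s)) = (-1) ^ (chevE6.cartan 2 s).natAbs := by
  decide +kernel

theorem ntE6_tgt_3 : ∀ s < 72, nTgt 72 ntE6 3 s < 72 ∧
    (nSgn 72 ntE6 3 s = 2 ∨ nSgn 72 ntE6 3 s = 3) ∧ nSgn 72 ntE6 3 (72 - 1 - s) = nSgn 72 ntE6 3 s ∧
    dc (nSgn 72 ntE6 3 s) * dc (nSgn 72 ntE6 3 (nTgt 72 ntE6 3 s)) = (-1) ^ (chevE6.cartan 3 s).natAbs := by
  decide +kernel

theorem ntE6_tgt_4 : ∀ s < 72, nTgt 72 ntE6 4 s < 72 ∧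
    (nSgn 72 ntE6 4 s = 2 ∨ nSgn 72 ntE6 4 s = 3) ∧ nSgn 72 ntE6 4 (72 - 1 - s) = nSgn 72 ntE6 4 s ∧
    dc (nSgn 72 ntE6 4 s) * dc (nSgn 72 ntE6 4 (nTgt 72 ntE6 4 s)) = (-1) ^ (chevE6.cartan 4 s).natAbs := by
  decide +kernel

theorem ntE6_tgt_5 : ∀ s < 72, nTgt 72 ntE6 5 s < 72 ∧
    (nSgn 72 ntE6 5 s = 2 ∨ nSgn 72 ntE6 5 s = 3) ∧ nSgn 72 ntE6 5 (72 - 1 - s) = nSgn 72 ntE6 5 s ∧
    dc (nSgn 72 ntE6 5 s) * dc (nSgn 72 ntE6 5 (nTgt 72 ntE6 5 s)) = (-1) ^ (chevE6.cartan 5 s).natAbs := by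
  decide +kernel

theorem ntE6_sim : ∀ i < tbE6.l, nSgn tbE6.n ntE6 i (sLook siE6 i) = 3 := by
  decide +kernel

theorem ntE6_facts : NFacts tbE6 ntE6 siE6 chevE6 := by
  refine ⟨fun i hi => ?_, fun i hi => ?_, ntE6_sim⟩
  · change i < 6 at hi
    have : i = 0 ∨ i = 1 ∨ i = 2 ∨ i = 3 ∨ i = 4 ∨ i = 5 := by omega
    rcases this with rfl | rfl | rfl | rfl | rfl | rfl
    · exact ntE6_refl_0
    · exact ntE6_refl_1
    · exact ntE6_refl_2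
    · exact ntE6_refl_3
    · exact ntE6_refl_4
    · exact ntE6_refl_5
  · change i < 6 at hi
    have : i = 0 ∨ i = 1 ∨ i = 2 ∨ i = 3 ∨ i = 4 ∨ i = 5 := by omega
    rcases this with rfl | rfl | rfl | rfl | rfl | rfl
    · exact ntE6_tgt_0
    · exact ntE6_tgt_1
    · exact ntE6_tgt_2
    · exact ntE6_tgt_3
    · exact ntE6_tgt_4
    · exact ntE6_tgt_5

theorem ntE6_half : ∀ r < tbE6.n, (chevE6.IsPosRoot r ↔ tbE6.n ≤ 2 * r) ∧ (chevE6.IsNegRoot r ↔ 2 * r < tbE6.n) := by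
  decide +kernel

theorem ntE6_fr_0 : ∀ s < 72, nTgt 72 ntE6 0 (nTgt 72 ntE6 0 s) = s ∧
    nTgt 72 ntE6 0 (72 - 1 - s) = 72 - 1 - nTgt 72 ntE6 0 s ∧
    (72 ≤ 2 * s → s ≠ sLook siE6 0 → 72 ≤ 2 * nTgt 72 ntE6 0 s) := by
  decide +kernel

theorem ntE6_fr_1 : ∀ s < 72, nTgt 72 ntE6 1 (nTgt 72 ntE6 1 s) = s ∧
    nTgt 72 ntE6 1 (72 - 1 - s) = 72 - 1 - nTgt 72 ntE6 1 s ∧
    (72 ≤ 2 * s → s ≠ sLook siE6 1 → 72 ≤ 2 * nTgt 72 ntE6 1 s) := by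
  decide +kernel

theorem ntE6_fr_2 : ∀ s < 72, nTgt 72 ntE6 2 (nTgt 72 ntE6 2 s) = s ∧
    nTgt 72 ntE6 2 (72 - 1 - s) = 72 - 1 - nTgt 72 ntE6 2 s ∧
    (72 ≤ 2 * s → s ≠ sLook siE6 2 → 72 ≤ 2 * nTgt 72 ntE6 2 s) := by
  decide +kernel

theorem ntE6_fr_3 : ∀ s < 72, nTgt 72 ntE6 3 (nTgt 72 ntE6 3 s) = s ∧
    nTgt 72 ntE6 3 (72 - 1 - s) = 72 - 1 - nTgt 72 ntE6 3 s ∧
    (72 ≤ 2 * s → s ≠ sLook siE6 3 → 72 ≤ 2 * nTgt 72 ntE6 3 s) := by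
  decide +kernel

theorem ntE6_fr_4 : ∀ s < 72, nTgt 72 ntE6 4 (nTgt 72 ntE6 4 s) = s ∧
    nTgt 72 ntE6 4 (72 - 1 - s) = 72 - 1 - nTgt 72 ntE6 4 s ∧
    (72 ≤ 2 * s → s ≠ sLook siE6 4 → 72 ≤ 2 * nTgt 72 ntE6 4 s) := by
  decide +kernel

theorem ntE6_fr_5 : ∀ s < 72, nTgt 72 ntE6 5 (nTgt 72 ntE6 5 s) = s ∧
    nTgt 72 ntE6 5 (72 - 1 - s) = 72 - 1 - nTgt 72 ntE6 5 s ∧
    (72 ≤ 2 * s → s ≠ sLook siE6 5 → 72 ≤ 2 * nTgt 72 ntE6 5 s) := by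
  decide +kernel

theorem ntE6_simpos : ∀ i < tbE6.l, tbE6.n ≤ 2 * sLook siE6 i := by
  decide +kernel

theorem ntE6_orb : ∀ r < 72, (∃ j < 6, r = sLook siE6 j) ∨ ∃ i < 6, muN 72 (nTgt 72 ntE6 i r) < muN 72 r := by
  decide +kernel

theorem ntE6_fast : FastRoot tbE6 ntE6 siE6 chevE6 := by
  refine ⟨rfl, ntE6_half, fun i hi => ?_, ntE6_simpos, ntE6_orb⟩
  change i < 6 at hi
  have : i = 0 ∨ i = 1 ∨ i = 2 ∨ i = 3 ∨ i = 4 ∨ i = 5 := by omega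
  rcases this with rfl | rfl | rfl | rfl | rfl | rfl
  · exact ntE6_fr_0
  · exact ntE6_fr_1
  · exact ntE6_fr_2
  · exact ntE6_fr_3
  · exact ntE6_fr_4
  · exact ntE6_fr_5

end Cfsg.Agent.Lib.Helper23
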