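import Cfsg.Agent.Lib.Helper23.FastRoot
import Cfsg.Agent.Lib.Helper22.ChevTabE7

set_option autoImplicit false
set_option maxRecDepth 1000000
set_option maxHeartbeats 0

namespace Cfsg.Agent.Lib.Helper23

open Cfsg.Lie Cfsg.Agent.Lib.Helper22

def ntE7 : ℕ := 0x1f61f21ee1ea1e61df1e21da1d61cf1d21ca1c31c61bb1be1b61b21ab1ae1a31a619e19719a19218e18718a18217e17a17617216b16e16316615e15715a15214e14714a14213e13a13313612e12a12611f12211a11610f11210a1031060fb0ff0f20f70ee0e60eb0e20de0d60db0d20ce0ca0c20c70be0ba0b60ae0b30aa0a609e0a309a09209708a08f08608207e07a07606e07306a06605e06305a05205704a04f04604203a03f03203702e02602b02201e01601b01200e00a0060021f61f21ee1ea1e31e61de1da1d31d61ce1c71ca1c21be1b71ba1af1b21aa1a619f1a219a19319618e18a18318617e17a17616f17216a16615f16215a15315614e14a14314613e13a13612f13212a12612211b11e11611210b10e0fe0f71070f31030fa0ea0ef0e60e20da0df0d60d20ce0c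60cb0c20be0ba0b20b70ae0aa0a20a709e09609b09208e08608b08207e07a07207706e06a06206705e05605b05204e04604b03e04303a03602e03302a02202701e01a01201700e00a0060021f61f21ee1e71ea1e21de1d71da1d21ce1ca1bf1bb1c61c21b61b21a71a31ae1aa19e19a19618f19218a18617f18217a17617216716316e16a15e15a15614f15214a14613f14213a13613212b12e12612211e11711a1061020ef11310f0fe0fa0eb0e710b0f60f20de0e30da0d60d20ca0cf0c60c20be0b60bb0b20ae0a60ab0a209e09a08e08a09709308608207e07607b07206e06606b06205e05a04e04a05705304604203603203f03b02e02a02601e02301a01600e01300a0060021f61f21eb1ee1e61e21de1da1cb1c71c31d61d21ce1be1ba1b61b21ae1aa19b1971931a61a219e18e18a18618217b17e17617216e16a15b15715316616215e14e14a14614213b13e13613212e12712a11210e10a0e312311f11b1061020fe0fa0f60f20df0db0d71170ee0ea0e60ce0d30ca0c60c20ba0bf0b60b20ae0aa09a0960920a70a309f08e08a08608207a07f07607206e06a05a05605206706305f04e04a04604203e03a02a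02602203703302f01e01a01601200a00f0060021f61ef1f21ea1e61e21de1da1d61d21ce1b31af1ab1a71a319f1ca1c61c21be1ba1b619a19619218e18a18618217e17717a17216e16a16616215e14b14714313f15a15615214e13a12211e11a1160d313713312f12b11210e10a1061020fe0fa0f60f20ee0ea0e60cf0cb0c70c31270e20de0da0d60be0aa0a60a209e0bb0b70b30af09a09609208e08a08607e08307a07607206e06a06606205e04203e03a03603202e05b05705304f04b04702a02602201e01a01601200e00600b0021f61f21ee1db1d71d31cf1ea1e61e21de1ca1c61c21be1ba1b61b21ae1aa1a61a219e18b18718317f19a19619218e17a17617216e16a16616215e13713312f12b12211e11a1160bf15a15615214e12614b14714313f11210e10a1061020fe0fa0f60f20ee0ea0e60bb0b70b30af0d20aa0a60a209e13b0e20de0da0d60cf0cb0c70c309a09609208e08a08608207e06a06606205e07b07707306f05a05605204e04a04604203e03a03603202e01a01601200e02b02702301f00a0060021f31f61ee1ea1e61e21de1da1d61d21ce1ca1c61c21be1ba1b617216e16a16616215e15a15615214e13613212e12a1260831b31af1ab1a71a319f19b19719318f14a14614213e13a18b18718317f17b12211e11a11611210e10a1061020fe0fa0f60f20ee0ea0e60e20de0da0d607f07b07707306f0be0ba0b60b20ae06b06706305f05b05705304f04b0471770d20ce0ca0c60c20aa0a60a209e09a09609208e08a08604203e03a03603202e02a02602201e01a01601200e00a002007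

def siE7 : ℕ := 0x3f04004204504904e05d

theorem ntE7_hs : ∀ i < tbE7.l, chevE7.simple i = sLook siE7 i ∧ sLook siE7 i < tbE7.n := by
  decide +kernel

theorem ntE7_chk_0 : chkN tbE7 ntE7 siE7 133 0 = true := by
  decide +kernel

theorem ntE7_chk_1 : chkN tbE7 ntE7 siE7 133 1 = true := by
  decide +kernel

theorem ntE7_chk_2 : chkN tbE7 ntE7 siE7 133 2 = true := by
  decide +kernel

theorem ntE7_chk_3 : chkN tbE7 ntE7 siE7 133 3 = true := by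
  decide +kernel

theorem ntE7_chk_4 : chkN tbE7 ntE7 siE7 133 4 = true := by
  decide +kernel

theorem ntE7_chk_5 : chkN tbE7 ntE7 siE7 133 5 = true := by
  decide +kernel

theorem ntE7_chk_6 : chkN tbE7 ntE7 siE7 133 6 = true := by
  decide +kernel

theorem ntE7_valid : NValid tbE7 ntE7 siE7 chevE7 := by
  refine ⟨ntE7_hs, fun i hi => ?_⟩
  change i < 7 at hi
  have : i = 0 ∨ i = 1 ∨ i = 2 ∨ i = 3 ∨ i = 4 ∨ i = 5 ∨ i = 6 := by omega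
  rcases this with rfl | rfl | rfl | rfl | rfl | rfl | rfl
  · exact ntE7_chk_0
  · exact ntE7_chk_1
  · exact ntE7_chk_2
  · exact ntE7_chk_3
  · exact ntE7_chk_4
  · exact ntE7_chk_5
  · exact ntE7_chk_6

theorem ntE7_refl_0 : ∀ s < 126, chevE7.reflectRoot 0 s = nTgt 126 ntE7 0 s := by
  decide +kernel

theorem ntE7_refl_1 : ∀ s < 126, chevE7.reflectRoot 1 s = nTgt 126 ntE7 1 s := by
  decide +kernel

theorem ntE7_refl_2 : ∀ s < 126, chevE7.reflectRoot 2 s = nTgt 126 ntE7 2 s := by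
  decide +kernel

theorem ntE7_refl_3 : ∀ s < 126, chevE7.reflectRoot 3 s = nTgt 126 ntE7 3 s := by
  decide +kernel

theorem ntE7_refl_4 : ∀ s < 126, chevE7.reflectRoot 4 s = nTgt 126 ntE7 4 s := by
  decide +kernel

theorem ntE7_refl_5 : ∀ s < 126, chevE7.reflectRoot 5 s = nTgt 126 ntE7 5 s := by
  decide +kernel

theorem ntE7_refl_6 : ∀ s < 126, chevE7.reflectRoot 6 s = nTgt 126 ntE7 6 s := by
  decide +kernel

theorem ntE7_tgt_0 : ∀ s < 126, nTgt 126 ntE7 0 s < 126 ∧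
    (nSgn 126 ntE7 0 s = 2 ∨ nSgn 126 ntE7 0 s = 3) ∧ nSgn 126 ntE7 0 (126 - 1 - s) = nSgn 126 ntE7 0 s ∧
    dc (nSgn 126 ntE7 0 s) * dc (nSgn 126 ntE7 0 (nTgt 126 ntE7 0 s)) = (-1) ^ (chevE7.cartan 0 s).natAbs := by
  decide +kernel

theorem ntE7_tgt_1 : ∀ s < 126, nTgt 126 ntE7 1 s < 126 ∧
    (nSgn 126 ntE7 1 s = 2 ∨ nSgn 126 ntE7 1 s = 3) ∧ nSgn 126 ntE7 1 (126 - 1 - s) = nSgn 126 ntE7 1 s ∧
    dc (nSgn 126 ntE7 1 s) * dc (nSgn 126 ntE7 1 (nTgt 126 ntE7 1 s)) = (-1) ^ (chevE7.cartan 1 s).natAbs := by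
  decide +kernel

theorem ntE7_tgt_2 : ∀ s < 126, nTgt 126 ntE7 2 s < 126 ∧
    (nSgn 126 ntE7 2 s = 2 ∨ nSgn 126 ntE7 2 s = 3) ∧ nSgn 126 ntE7 2 (126 - 1 - s) = nSgn 126 ntE7 2 s ∧
    dc (nSgn 126 ntE7 2 s) * dc (nSgn 126 ntE7 2 (nTgt 126 ntE7 2 s)) = (-1) ^ (chevE7.cartan 2 s).natAbs := by
  decide +kernel

theorem ntE7_tgt_3 : ∀ s < 126, nTgt 126 ntE7 3 s < 126 ∧
    (nSgn 126 ntE7 3 s = 2 ∨ nSgn 126 ntE7 3 s = 3) ∧ nSgn 126 ntE7 3 (126 - 1 - s) = nSgn 126 ntE7 3 s ∧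
    dc (nSgn 126 ntE7 3 s) * dc (nSgn 126 ntE7 3 (nTgt 126 ntE7 3 s)) = (-1) ^ (chevE7.cartan 3 s).natAbs := by
  decide +kernel

theorem ntE7_tgt_4 : ∀ s < 126, nTgt 126 ntE7 4 s < 126 ∧
    (nSgn 126 ntE7 4 s = 2 ∨ nSgn 126 ntE7 4 s = 3) ∧ nSgn 126 ntE7 4 (126 - 1 - s) = nSgn 126 ntE7 4 s ∧
    dc (nSgn 126 ntE7 4 s) * dc (nSgn 126 ntE7 4 (nTgt 126 ntE7 4 s)) = (-1) ^ (chevE7.cartan 4 s).natAbs := by
  decide +kernel

theorem ntE7_tgt_5 : ∀ s < 126, nTgt 126 ntE7 5 s < 126 ∧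
    (nSgn 126 ntE7 5 s = 2 ∨ nSgn 126 ntE7 5 s = 3) ∧ nSgn 126 ntE7 5 (126 - 1 - s) = nSgn 126 ntE7 5 s ∧
    dc (nSgn 126 ntE7 5 s) * dc (nSgn 126 ntE7 5 (nTgt 126 ntE7 5 s)) = (-1) ^ (chevE7.cartan 5 s).natAbs := by
  decide +kernel

theorem ntE7_tgt_6 : ∀ s < 126, nTgt 126 ntE7 6 s < 126 ∧
    (nSgn 126 ntE7 6 s = 2 ∨ nSgn 126 ntE7 6 s = 3) ∧ nSgn 126 ntE7 6 (126 - 1 - s) = nSgn 126 ntE7 6 s ∧
    dc (nSgn 126 ntE7 6 s) * dc (nSgn 126 ntE7 6 (nTgt 126 ntE7 6 s)) = (-1) ^ (chevE7.cartan 6 s).natAbs := by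
  decide +kernel

theorem ntE7_sim : ∀ i < tbE7.l, nSgn tbE7.n ntE7 i (sLook siE7 i) = 3 := by
  decide +kernel

theorem ntE7_facts : NFacts tbE7 ntE7 siE7 chevE7 := by
  refine ⟨fun i hi => ?_, fun i hi => ?_, ntE7_sim⟩
  · change i < 7 at hi
    have : i = 0 ∨ i = 1 ∨ i = 2 ∨ i = 3 ∨ i = 4 ∨ i = 5 ∨ i = 6 := by omega
    rcases this with rfl | rfl | rfl | rfl | rfl | rfl | rfl
    · exact ntE7_refl_0
    · exact ntE7_refl_1
    · exact ntE7_refl_2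
    · exact ntE7_refl_3
    · exact ntE7_refl_4
    · exact ntE7_refl_5
    · exact ntE7_refl_6
  · change i < 7 at hi
    have : i = 0 ∨ i = 1 ∨ i = 2 ∨ i = 3 ∨ i = 4 ∨ i = 5 ∨ i = 6 := by omega
    rcases this with rfl | rfl | rfl | rfl | rfl | rfl | rfl
    · exact ntE7_tgt_0
    · exact ntE7_tgt_1
    · exact ntE7_tgt_2
    · exact ntE7_tgt_3
    · exact ntE7_tgt_4
    · exact ntE7_tgt_5
    · exact ntE7_tgt_6

theorem ntE7_half : ∀ r < tbE7.n, (chevE7.IsPosRoot r ↔ tbE7.n ≤ 2 * r) ∧ (chevE7.IsNegRoot r ↔ 2 * r < tbE7.n) := by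
  decide +kernel

theorem ntE7_fr_0 : ∀ s < 126, nTgt 126 ntE7 0 (nTgt 126 ntE7 0 s) = s ∧
    nTgt 126 ntE7 0 (126 - 1 - s) = 126 - 1 - nTgt 126 ntE7 0 s ∧
    (126 ≤ 2 * s → s ≠ sLook siE7 0 → 126 ≤ 2 * nTgt 126 ntE7 0 s) := by
  decide +kernel

theorem ntE7_fr_1 : ∀ s < 126, nTgt 126 ntE7 1 (nTgt 126 ntE7 1 s) = s ∧
    nTgt 126 ntE7 1 (126 - 1 - s) = 126 - 1 - nTgt 126 ntE7 1 s ∧
    (126 ≤ 2 * s → s ≠ sLook siE7 1 → 126 ≤ 2 * nTgt 126 ntE7 1 s) := by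
  decide +kernel

theorem ntE7_fr_2 : ∀ s < 126, nTgt 126 ntE7 2 (nTgt 126 ntE7 2 s) = s ∧
    nTgt 126 ntE7 2 (126 - 1 - s) = 126 - 1 - nTgt 126 ntE7 2 s ∧
    (126 ≤ 2 * s → s ≠ sLook siE7 2 → 126 ≤ 2 * nTgt 126 ntE7 2 s) := by
  decide +kernel

theorem ntE7_fr_3 : ∀ s < 126, nTgt 126 ntE7 3 (nTgt 126 ntE7 3 s) = s ∧
    nTgt 126 ntE7 3 (126 - 1 - s) = 126 - 1 - nTgt 126 ntE7 3 s ∧
    (126 ≤ 2 * s → s ≠ sLook siE7 3 → 126 ≤ 2 * nTgt 126 ntE7 3 s) := by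
  decide +kernel

theorem ntE7_fr_4 : ∀ s < 126, nTgt 126 ntE7 4 (nTgt 126 ntE7 4 s) = s ∧
    nTgt 126 ntE7 4 (126 - 1 - s) = 126 - 1 - nTgt 126 ntE7 4 s ∧
    (126 ≤ 2 * s → s ≠ sLook siE7 4 → 126 ≤ 2 * nTgt 126 ntE7 4 s) := by
  decide +kernel

theorem ntE7_fr_5 : ∀ s < 126, nTgt 126 ntE7 5 (nTgt 126 ntE7 5 s) = s ∧
    nTgt 126 ntE7 5 (126 - 1 - s) = 126 - 1 - nTgt 126 ntE7 5 s ∧
    (126 ≤ 2 * s → s ≠ sLook siE7 5 → 126 ≤ 2 * nTgt 126 ntE7 5 s) := by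
  decide +kernel

theorem ntE7_fr_6 : ∀ s < 126, nTgt 126 ntE7 6 (nTgt 126 ntE7 6 s) = s ∧
    nTgt 126 ntE7 6 (126 - 1 - s) = 126 - 1 - nTgt 126 ntE7 6 s ∧
    (126 ≤ 2 * s → s ≠ sLook siE7 6 → 126 ≤ 2 * nTgt 126 ntE7 6 s) := by
  decide +kernel

theorem ntE7_simpos : ∀ i < tbE7.l, tbE7.n ≤ 2 * sLook siE7 i := by
  decide +kernel

theorem ntE7_orb : ∀ r < 126, (∃ j < 7, r = sLook siE7 j) ∨ ∃ i < 7, muN 126 (nTgt 126 ntE7 i r) < muN 126 r := by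
  decide +kernel

theorem ntE7_fast : FastRoot tbE7 ntE7 siE7 chevE7 := by
  refine ⟨rfl, ntE7_half, fun i hi => ?_, ntE7_simpos, ntE7_orb⟩
  change i < 7 at hi
  have : i = 0 ∨ i = 1 ∨ i = 2 ∨ i = 3 ∨ i = 4 ∨ i = 5 ∨ i = 6 := by omega
  rcases this with rfl | rfl | rfl | rfl | rfl | rfl | rfl
  · exact ntE7_fr_0
  · exact ntE7_fr_1
  · exact ntE7_fr_2
  · exact ntE7_fr_3
  · exact ntE7_fr_4
  · exact ntE7_fr_5
  · exact ntE7_fr_6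

end Cfsg.Agent.Lib.Helper23
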