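import Cfsg.Agent.Lib.Helper23.FastRoot
import Cfsg.Agent.Lib.Helper22.ChevTabF4

set_option autoImplicit false
set_option maxRecDepth 1000000
set_option maxHeartbeats 0

namespace Cfsg.Agent.Lib.Helper23

open Cfsg.Lie Cfsg.Agent.Lib.Helper22

def ntF4 : ℕ := 0xbb0be0b60b20ae0a70aa0a209e09709a08f09208a08608207b07e07307606e06706a05f06305605b05204a04f04204703e03a03602e03302602b02201e01601b01200e00a0020070be0b70ba0b20ab0ae0a60a209b09e09609208b08e08607f08207a07606f07206205b06b05706705e04e05304a04603e04303a03203702e02a02202701e01a01201700e00600b0020be0ba0ae0b30b60aa0a609f0a209308f09a09608708a08206b06707707305307f07b06205e04704306f04f04b05b05703e03603b02a02603302f01e02301a01600a00f0120060020be0ba0b60a308307f07b0b209f09b09707607206e03b0af0ab0a709308f08b06a06606205e05a05603703302f01b01701308705204e04a02b02702300e04704303f01f00a006002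

def siF4 : ℕ := 0x1801901b021

theorem ntF4_hs : ∀ i < tbF4.l, chevF4.simple i = sLook siF4 i ∧ sLook siF4 i < tbF4.n := by
  decide +kernel

theorem ntF4_chk_0 : chkN tbF4 ntF4 siF4 52 0 = true := by
  decide +kernel

theorem ntF4_chk_1 : chkN tbF4 ntF4 siF4 52 1 = true := by
  decide +kernel

theorem ntF4_chk_2 : chkN tbF4 ntF4 siF4 52 2 = true := by
  decide +kernel

theorem ntF4_chk_3 : chkN tbF4 ntF4 siF4 52 3 = true := by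
  decide +kernel

theorem ntF4_valid : NValid tbF4 ntF4 siF4 chevF4 := by
  refine ⟨ntF4_hs, fun i hi => ?_⟩
  change i < 4 at hi
  have : i = 0 ∨ i = 1 ∨ i = 2 ∨ i = 3 := by omega
  rcases this with rfl | rfl | rfl | rfl
  · exact ntF4_chk_0
  · exact ntF4_chk_1
  · exact ntF4_chk_2
  · exact ntF4_chk_3

theorem ntF4_refl_0 : ∀ s < 48, chevF4.reflectRoot 0 s = nTgt 48 ntF4 0 s := by
  decide +kernel

theorem ntF4_refl_1 : ∀ s < 48, chevF4.reflectRoot 1 s = nTgt 48 ntF4 1 s := by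
  decide +kernel

theorem ntF4_refl_2 : ∀ s < 48, chevF4.reflectRoot 2 s = nTgt 48 ntF4 2 s := by
  decide +kernel

theorem ntF4_refl_3 : ∀ s < 48, chevF4.reflectRoot 3 s = nTgt 48 ntF4 3 s := by
  decide +kernel

theorem ntF4_tgt_0 : ∀ s < 48, nTgt 48 ntF4 0 s < 48 ∧
    (nSgn 48 ntF4 0 s = 2 ∨ nSgn 48 ntF4 0 s = 3) ∧ nSgn 48 ntF4 0 (48 - 1 - s) = nSgn 48 ntF4 0 s ∧
    dc (nSgn 48 ntF4 0 s) * dc (nSgn 48 ntF4 0 (nTgt 48 ntF4 0 s)) = (-1) ^ (chevF4.cartan 0 s).natAbs := by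
  decide +kernel

theorem ntF4_tgt_1 : ∀ s < 48, nTgt 48 ntF4 1 s < 48 ∧
    (nSgn 48 ntF4 1 s = 2 ∨ nSgn 48 ntF4 1 s = 3) ∧ nSgn 48 ntF4 1 (48 - 1 - s) = nSgn 48 ntF4 1 s ∧
    dc (nSgn 48 ntF4 1 s) * dc (nSgn 48 ntF4 1 (nTgt 48 ntF4 1 s)) = (-1) ^ (chevF4.cartan 1 s).natAbs := by
  decide +kernel

theorem ntF4_tgt_2 : ∀ s < 48, nTgt 48 ntF4 2 s < 48 ∧
    (nSgn 48 ntF4 2 s = 2 ∨ nSgn 48 ntF4 2 s = 3) ∧ nSgn 48 ntF4 2 (48 - 1 - s) = nSgn 48 ntF4 2 s ∧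
    dc (nSgn 48 ntF4 2 s) * dc (nSgn 48 ntF4 2 (nTgt 48 ntF4 2 s)) = (-1) ^ (chevF4.cartan 2 s).natAbs := by
  decide +kernel

theorem ntF4_tgt_3 : ∀ s < 48, nTgt 48 ntF4 3 s < 48 ∧
    (nSgn 48 ntF4 3 s = 2 ∨ nSgn 48 ntF4 3 s = 3) ∧ nSgn 48 ntF4 3 (48 - 1 - s) = nSgn 48 ntF4 3 s ∧
    dc (nSgn 48 ntF4 3 s) * dc (nSgn 48 ntF4 3 (nTgt 48 ntF4 3 s)) = (-1) ^ (chevF4.cartan 3 s).natAbs := by
  decide +kernel

theorem ntF4_sim : ∀ i < tbF4.l, nSgn tbF4.n ntF4 i (sLook siF4 i) = 3 := by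
  decide +kernel

theorem ntF4_facts : NFacts tbF4 ntF4 siF4 chevF4 := by
  refine ⟨fun i hi => ?_, fun i hi => ?_, ntF4_sim⟩
  · change i < 4 at hi
    have : i = 0 ∨ i = 1 ∨ i = 2 ∨ i = 3 := by omega
    rcases this with rfl | rfl | rfl | rfl
    · exact ntF4_refl_0
    · exact ntF4_refl_1
    · exact ntF4_refl_2
    · exact ntF4_refl_3
  · change i < 4 at hi
    have : i = 0 ∨ i = 1 ∨ i = 2 ∨ i = 3 := by omega
    rcases this with rfl | rfl | rfl | rfl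
    · exact ntF4_tgt_0
    · exact ntF4_tgt_1
    · exact ntF4_tgt_2
    · exact ntF4_tgt_3

theorem ntF4_half : ∀ r < tbF4.n, (chevF4.IsPosRoot r ↔ tbF4.n ≤ 2 * r) ∧ (chevF4.IsNegRoot r ↔ 2 * r < tbF4.n) := by
  decide +kernel

theorem ntF4_fr_0 : ∀ s < 48, nTgt 48 ntF4 0 (nTgt 48 ntF4 0 s) = s ∧
    nTgt 48 ntF4 0 (48 - 1 - s) = 48 - 1 - nTgt 48 ntF4 0 s ∧
    (48 ≤ 2 * s → s ≠ sLook siF4 0 → 48 ≤ 2 * nTgt 48 ntF4 0 s) := by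
  decide +kernel

theorem ntF4_fr_1 : ∀ s < 48, nTgt 48 ntF4 1 (nTgt 48 ntF4 1 s) = s ∧
    nTgt 48 ntF4 1 (48 - 1 - s) = 48 - 1 - nTgt 48 ntF4 1 s ∧
    (48 ≤ 2 * s → s ≠ sLook siF4 1 → 48 ≤ 2 * nTgt 48 ntF4 1 s) := by
  decide +kernel

theorem ntF4_fr_2 : ∀ s < 48, nTgt 48 ntF4 2 (nTgt 48 ntF4 2 s) = s ∧
    nTgt 48 ntF4 2 (48 - 1 - s) = 48 - 1 - nTgt 48 ntF4 2 s ∧
    (48 ≤ 2 * s → s ≠ sLook siF4 2 → 48 ≤ 2 * nTgt 48 ntF4 2 s) := by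
  decide +kernel

theorem ntF4_fr_3 : ∀ s < 48, nTgt 48 ntF4 3 (nTgt 48 ntF4 3 s) = s ∧
    nTgt 48 ntF4 3 (48 - 1 - s) = 48 - 1 - nTgt 48 ntF4 3 s ∧
    (48 ≤ 2 * s → s ≠ sLook siF4 3 → 48 ≤ 2 * nTgt 48 ntF4 3 s) := by
  decide +kernel

theorem ntF4_simpos : ∀ i < tbF4.l, tbF4.n ≤ 2 * sLook siF4 i := by
  decide +kernel

theorem ntF4_orb : ∀ r < 48, (∃ j < 4, r = sLook siF4 j) ∨ ∃ i < 4, muN 48 (nTgt 48 ntF4 i r) < muN 48 r := by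
  decide +kernel

theorem ntF4_fast : FastRoot tbF4 ntF4 siF4 chevF4 := by
  refine ⟨rfl, ntF4_half, fun i hi => ?_, ntF4_simpos, ntF4_orb⟩
  change i < 4 at hi
  have : i = 0 ∨ i = 1 ∨ i = 2 ∨ i = 3 := by omega
  rcases this with rfl | rfl | rfl | rfl
  · exact ntF4_fr_0
  · exact ntF4_fr_1
  · exact ntF4_fr_2
  · exact ntF4_fr_3

end Cfsg.Agent.Lib.Helper23
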