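import Cfsg.Agent.Lib.Helper23.TwBasic
import Cfsg.Agent.Lib.Helper23.ChevSimple

set_option autoImplicit false

namespace Cfsg.Agent.Lib.Helper23

open Cfsg.Lie Matrix

/-- the elements of `W` given by the words `w`, `w'` do not commute. -/
def EdgeW (D : ChevalleyDatum) (w w' : List ℕ) : Prop :=
  ∃ s < D.nroots, D.IsPosRoot s ∧ D.IsNegRoot (wact D w (wact D w' (wact D w.reverse (wact D w'.reverse s))))

instance instDecEdgeW (D : ChevalleyDatum) (w w' : List ℕ) : Decidable (EdgeW D w w') :=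
  inferInstanceAs (Decidable (∃ s < D.nroots, _))

/-- connectedness of the twisted diagram, witnessed by a rooted tree. -/
def ConnO (D : ChevalleyDatum) (O : List (List ℕ)) (par dep : List ℕ) : Prop :=
  ∀ j < O.length, j ≠ 0 → par.getD j 0 < O.length ∧ dep.getD (par.getD j 0) 0 < dep.getD j 0 ∧
    EdgeW D (O.getD (par.getD j 0) []) (O.getD j []) ∧ EdgeW D (O.getD j []) (O.getD (par.getD j 0) [])

instance instDecConnO (D : ChevalleyDatum) (O : List (List ℕ)) (par dep : List ℕ) : Decidable (ConnO D O par dep) :=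
  inferInstanceAs (Decidable (∀ j < O.length, _))

variable {D : ChevalleyDatum} {K : Type*} [Field K]

namespace AddFact
variable (hA : AddFact D K) (hR : RootFacts D) (hN : NConj D K) (hT : Torus D K) (hTri : Tri D K)

include hR hN hTri in
theorem comm_nword_not_mem_borel {w w' : List ℕ} (hw : ∀ i ∈ w, i < D.rank) (hw' : ∀ i ∈ w', i < D.rank)
    (h : EdgeW D w w') :
    hA.nword w * hA.nword w' * (hA.nword w)⁻¹ * (hA.nword w')⁻¹ ∉ D.borelSubgroup K := by
  obtain ⟨s, hs, hpos, hneg⟩ := h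
  intro hb
  have hwr : ∀ i ∈ w.reverse, i < D.rank := fun i hi => hw i (by simpa using hi)
  have hwr' : ∀ i ∈ w'.reverse, i < D.rank := fun i hi => hw' i (by simpa using hi)
  obtain ⟨ε₁, e1, h1⟩ := hA.nword_inv_conj hR hN hw' hs
  have l1 := hR.wact_lt hwr' hs
  obtain ⟨ε₂, e2, h2⟩ := hA.nword_inv_conj hR hN hw l1
  have l2 := hR.wact_lt hwr l1
  obtain ⟨ε₃, e3, h3, _⟩ := hA.nword_conj hR hN hw' l2
  have l3 := hR.wact_lt hw' l2
  obtain ⟨ε₄, e4, h4, _⟩ := hA.nword_conj hR hN hw l3
  set g := hA.nword w * hA.nword w' * (hA.nword w)⁻¹ * (hA.nword w')⁻¹ with hg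
  have key : g * hA.X s 1 * g⁻¹ =
      hA.X (wact D w (wact D w' (wact D w.reverse (wact D w'.reverse s)))) (ε₄ * (ε₃ * (ε₂ * (ε₁ * 1)))) := by
    have : g * hA.X s 1 * g⁻¹ = hA.nword w * (hA.nword w' * ((hA.nword w)⁻¹ * ((hA.nword w')⁻¹ * hA.X s 1 *
        hA.nword w') * hA.nword w) * (hA.nword w')⁻¹) * (hA.nword w)⁻¹ := by rw [hg]; group
    rw [this, h1, h2, h3, h4]
  have hmem : g * hA.X s 1 * g⁻¹ ∈ D.borelSubgroup K :=
    mul_mem (mul_mem hb (pos_le_borel (hA.X_mem_pos hpos 1))) (inv_mem hb)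
  rw [key] at hmem
  refine hA.not_mem_borel_of_neg hTri hneg ?_ hmem
  rcases e1 with rfl | rfl <;> rcases e2 with rfl | rfl <;> rcases e3 with rfl | rfl <;>
    rcases e4 with rfl | rfl <;> simp

include hA hR hN hT hTri in
/-- simplicity of a twisted group from its (B,N)-pair -/
theorem tw_isSimpleGroup_of {G1 : Subgroup (GL D.Idx K)} {O : List (List ℕ)}
    (hOr : ∀ J ∈ O, ∀ i ∈ J, i < D.rank) (hG : ∀ J ∈ O, hA.nword J ∈ G1)
    (hP : ∃ P : Cfsg.BNPair ↥G1, P.B = (D.borelSubgroup K ⊓ G1).subgroupOf G1 ∧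
      P.S = {s : ↥G1 | ∃ J ∈ O, (s : GL D.Idx K) = hA.nword J})
    {par dep : List ℕ} (hconn : ConnO D O par dep)
    (hU : Group.IsSolvable (D.posUnipotent K)) (hperf : commutator ↥G1 = ⊤)
    (hcore : ((D.borelSubgroup K ⊓ G1).subgroupOf G1).normalCore = ⊥) (hnt : Nontrivial ↥G1) :
    IsSimpleGroup ↥G1 ∧ ¬ IsMulCommutative ↥G1 := by
  obtain ⟨P, hB, hS⟩ := hP
  have hmemO : ∀ i < O.length, O.getD i [] ∈ O := by
    intro i hi
    rw [List.getD_eq_getElem _ _ hi]
    exact List.getElem_mem hi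
  have hirr : P.Irreducible := by
    intro J hJ hJne hJc
    by_contra hcon
    push Not at hcon
    let nnG : ℕ → ↥G1 := fun i => if h : i < O.length then ⟨hA.nword (O.getD i []), hG _ (hmemO i h)⟩ else 1
    have hval : ∀ i < O.length, ((nnG i : ↥G1) : GL D.Idx K) = hA.nword (O.getD i []) := by
      intro i hi
      simp only [nnG, dif_pos hi]
    have hmemS : ∀ i < O.length, nnG i ∈ P.S := by
      intro i hi
      rw [hS]
      exact ⟨_, hmemO i hi, hval i hi⟩
    have hofS : ∀ s ∈ P.S, ∃ i < O.length, s = nnG i := by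
      intro s hs
      rw [hS] at hs
      obtain ⟨J', hJ', h⟩ := hs
      obtain ⟨i, hi, rfl⟩ := List.getElem_of_mem hJ'
      exact ⟨i, hi, Subtype.ext (by rw [h, hval i hi, List.getD_eq_getElem _ _ hi])⟩
    have hno : ∀ i < O.length, ∀ j < O.length, nnG i ∈ J → nnG j ∉ J → ¬ EdgeW D (O.getD i []) (O.getD j []) := by
      intro i hi j hj h1 h2 he
      have := hcon (nnG i) h1 (nnG j) ⟨hmemS j hj, h2⟩
      rw [hB, Subgroup.mem_subgroupOf] at this
      have h3 := this.1
      simp only [Subgroup.coe_mul, InvMemClass.coe_inv, hval i hi, hval j hj] at h3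
      exact hA.comm_nword_not_mem_borel hR hN hTri (hOr _ (hmemO i hi)) (hOr _ (hmemO j hj)) he h3
    have hall : ∀ k : ℕ, ∀ j < O.length, dep.getD j 0 = k → (nnG j ∈ J ↔ nnG 0 ∈ J) := by
      intro k
      induction k using Nat.strong_induction_on with
      | _ k ih =>
        intro j hj hk
        by_cases h0 : j = 0
        · rw [h0]
        · obtain ⟨c1, c2, c3, c4⟩ := hconn j hj h0
          rw [← ih _ (hk ▸ c2) _ c1 rfl]
          constructor
          · intro h
            by_contra h'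
            exact hno j hj _ c1 h h' c4
          · intro h
            by_contra h'
            exact hno _ c1 j hj h h' c3
    obtain ⟨a, ha⟩ := hJne
    obtain ⟨b, hb1, hb2⟩ := hJc
    obtain ⟨i, hi, rfl⟩ := hofS a (hJ ha)
    obtain ⟨j, hj, rfl⟩ := hofS b hb1
    exact hb2 ((hall _ j hj rfl).2 ((hall _ i hi rfl).1 ha))
  have hsolv : Group.IsSolvable P.B := by
    rw [hB]
    have h1 := hA.borel_isSolvable hT hU
    let f : ↥((D.borelSubgroup K ⊓ G1).subgroupOf G1) →* ↥(D.borelSubgroup K) :=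
      { toFun := fun x => ⟨((x : ↥G1) : GL D.Idx K), (Subgroup.mem_subgroupOf.1 x.2).1⟩
        map_one' := rfl
        map_mul' := fun _ _ => rfl }
    have hf : Function.Injective f := by
      intro x y h
      have : ((x : ↥G1) : GL D.Idx K) = ((y : ↥G1) : GL D.Idx K) :=
        congrArg (fun z : ↥(D.borelSubgroup K) => (z : GL D.Idx K)) h
      exact Subtype.ext (Subtype.ext this)
    exact Group.isSolvable_of_isSolvable_injective hf
  have hcore' : P.B.normalCore = ⊥ := by rw [hB]; exact hcore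
  refine ⟨Cfsg.Agent.S0319.result P hirr hsolv hperf hcore', ?_⟩
  intro hcomm
  have : commutator ↥G1 = ⊥ := by
    rw [commutator_def, Subgroup.commutator_eq_bot_iff_le_centralizer]
    intro x _
    rw [Subgroup.mem_centralizer_iff]
    intro y _
    exact hcomm.is_comm.comm y x
  rw [this] at hperf
  exact bot_ne_top hperf

end AddFact

end Cfsg.Agent.Lib.Helper23
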