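import Cfsg.Agent.Lib.Helper8.Exchange
import Cfsg.Agent.Lib.Helper5.DihedralIso

/-!
# Sums over a dihedral Weyl group of order `16`
-/

set_option autoImplicit false
set_option maxRecDepth 100000

namespace Cfsg.Agent.Lib.Helper23
open Cfsg.Agent.Lib.Helper8

/-- the generators of the dihedral group of order `16` -/
def dg8 : Fin 2 → DihedralGroup 8 := ![DihedralGroup.sr 0, DihedralGroup.sr 1]

/-- the alternating words -/
def alt8 : List (List (Fin 2)) :=
  [[], [0], [1], [0, 1], [1, 0], [0, 1, 0], [1, 0, 1], [0, 1, 0, 1], [1, 0, 1, 0], [0, 1, 0, 1, 0],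
    [1, 0, 1, 0, 1], [0, 1, 0, 1, 0, 1], [1, 0, 1, 0, 1, 0], [0, 1, 0, 1, 0, 1, 0], [1, 0, 1, 0, 1, 0, 1],
    [0, 1, 0, 1, 0, 1, 0, 1]]

/-- the length function -/
def len8 : DihedralGroup 8 → ℕ
  | .r i => [0, 2, 4, 6, 8, 6, 4, 2].getD i.val 0
  | .sr i => [1, 1, 3, 5, 7, 7, 5, 3].getD i.val 0

theorem len8_step : ∀ (i : Fin 2) (d : DihedralGroup 8), len8 (dg8 i * d) ≤ len8 d + 1 := by
  decide +kernel

theorem len8_le : ∀ L : List (Fin 2), len8 (wp dg8 L) ≤ L.length
  | [] => by rw [wp_nil]; decide +kernel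
  | i :: L => by
    rw [wp_cons, List.length_cons]
    exact (len8_step i _).trans (Nat.succ_le_succ (len8_le L))

theorem len8_alt : ∀ L ∈ alt8, len8 (wp dg8 L) = L.length := by decide +kernel

theorem red8 {L : List (Fin 2)} (hL : L ∈ alt8) : Red dg8 L := by
  intro L' h
  rw [← len8_alt L hL, ← h]
  exact len8_le L'

theorem alt8_bij : Function.Bijective (fun k : Fin 16 => wp dg8 (alt8.getD k.val [])) := by
  decide +kernel

/-- a group generated by two involutions whose product has order `n` is dihedral -/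
theorem exists_dihedral_equiv' {W : Type*} [Group W] (f : Fin 2 → W) (h1 : ∀ i, f i * f i = 1)
    (hne : ∀ i, f i ≠ 1) (h2 : ∀ w, ∃ L, wp f L = w) {n : ℕ} (h4 : orderOf (f 0 * f 1) = n) :
    ∃ e : DihedralGroup n ≃* W, e (.sr 0) = f 0 ∧ e (.sr 1) = f 1 := by
  have ho : ∀ i, orderOf (f i) = 2 := fun i =>
    orderOf_eq_prime (by rw [sq]; exact h1 i) (hne i)
  have htop : Subgroup.closure ({f 0, f 1} : Set W) = ⊤ := by
    rw [eq_top_iff]
    rintro w -
    obtain ⟨L, rfl⟩ := h2 w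
    apply Subgroup.list_prod_mem
    intro x hx
    obtain ⟨i, _, rfl⟩ := List.mem_map.1 hx
    apply Subgroup.subset_closure
    fin_cases i
    · exact Or.inl rfl
    · exact Or.inr rfl
  subst h4
  have hsurj : Function.Surjective (Cfsg.Agent.Lib.Helper5.dihHom (ho 0) (ho 1)) := by
    rw [← MonoidHom.range_eq_top, Cfsg.Agent.Lib.Helper5.dihHom_range, htop]
  refine ⟨MulEquiv.ofBijective _ ⟨Cfsg.Agent.Lib.Helper5.dihHom_injective (ho 0) (ho 1), hsurj⟩, ?_, ?_⟩
  · show Cfsg.Agent.Lib.Helper5.dihHom (ho 0) (ho 1) (.sr 0) = f 0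
    rw [Cfsg.Agent.Lib.Helper5.dihHom_sr, Cfsg.Agent.Lib.Helper5.zp_zero, mul_one]
  · show Cfsg.Agent.Lib.Helper5.dihHom (ho 0) (ho 1) (.sr 1) = f 1
    rw [Cfsg.Agent.Lib.Helper5.dihHom_sr, Cfsg.Agent.Lib.Helper5.zp_one, ← mul_assoc, h1 0, one_mul]

/-- the weighted sum over a dihedral group of order `16` -/
theorem dih8_sum {W : Type*} [Group W] (f : Fin 2 → W) (h1 : ∀ i, f i * f i = 1) (hne : ∀ i, f i ≠ 1)
    (h2 : ∀ w, ∃ L, wp f L = w) (h4 : orderOf (f 0 * f 1) = 8) (a : Fin 2 → ℕ) (c : W → ℕ)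
    (hc : ∀ i L, Red f (i :: L) → c (wp f (i :: L)) = a i * c (wp f L)) :
    ∑ᶠ w, c w = c 1 * (alt8.map fun L => (L.map a).prod).sum := by
  obtain ⟨e, e0, e1⟩ := exists_dihedral_equiv' f h1 hne h2 h4
  have hf : ∀ i, e (dg8 i) = f i := by
    intro i
    fin_cases i
    · exact e0
    · exact e1
  have hwp : ∀ L, wp f L = e (wp dg8 L) := by
    intro L
    unfold wp
    rw [map_list_prod, List.map_map]
    congr 1
    exact List.map_congr_left fun i _ => (hf i).symm
  have hred : ∀ L ∈ alt8, Red f L := by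
    intro L hL L' h
    rw [hwp, hwp] at h
    exact red8 hL L' (e.injective h)
  have hcw : ∀ L, Red f L → c (wp f L) = (L.map a).prod * c 1 := by
    intro L
    induction L with
    | nil => intro _; simp
    | cons i L ih =>
      intro h
      rw [hc i L h, ih h.tail, List.map_cons, List.prod_cons, mul_assoc]
  let E : Fin 16 ≃ W := (Equiv.ofBijective _ alt8_bij).trans e.toEquiv
  rw [← finsum_comp_equiv E, finsum_eq_sum_of_fintype]
  have hE : ∀ k : Fin 16, c (E k) = ((alt8.getD k.val []).map a).prod * c 1 := by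
    intro k
    have : E k = wp f (alt8.getD k.val []) := by rw [hwp]; rfl
    rw [this]
    apply hcw
    apply hred
    have : ∀ k : Fin 16, alt8.getD k.val [] ∈ alt8 := by decide +kernel
    exact this k
  rw [Finset.sum_congr rfl fun k _ => hE k, ← Finset.sum_mul, mul_comm]
  congr 1

end Cfsg.Agent.Lib.Helper23
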